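import Cfsg.Agent.H847.Co1Small
import Cfsg.Agent.H843.IMC.LamCo1
import Cfsg.Agent.S0366

/-!
# Representations of `Co1` restricted to `2^11 : M24` (helper590)

`R` a representation of `Co1` on `W`, `A` = fixed space of `2^11`, `pS R S` the projection on the part of `2^11` belonging
to the set `S`; if `c = 0` (no tetrads), `W` is the sum of `A` and the parts of the 276 duads: `trace_split`.
-/

set_option autoImplicit false
set_option linter.unusedSectionVars false

namespace Cfsg.Agent.H590.Ore.CoOneDeg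

open Module Cfsg Cfsg.Agent.H847.Avg Cfsg.Agent.H847.Co1Small
open Cfsg.Agent.SporadicA.Co0Mono (signCo0 permCo0 wordPerm wordPerm_apply perm_mul_sign)
open Cfsg.Agent.CoOneType.CoOneE (pr)
open Cfsg.Agent.H843.IMC.LamCo1 (wp)
open scoped Pointwise

/-! ### projections -/

section Proj

variable {V : Type*} [AddCommGroup V] [Module ℂ V] [FiniteDimensional ℂ V]

theorem isProj_range {p : V →ₗ[ℂ] V} (h : p * p = p) : LinearMap.IsProj (LinearMap.range p) p :=
  ⟨fun x => ⟨x, rfl⟩, by rintro _ ⟨x, rfl⟩; exact congrArg (fun f : V →ₗ[ℂ] V => f x) h⟩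

theorem eq_one_of_trace {p : V →ₗ[ℂ] V} (hp : p * p = p) (h : LinearMap.trace ℂ V p = (finrank ℂ V : ℂ)) : p = 1 := by
  have h1 := (isProj_range hp).trace
  rw [h] at h1
  have h2 : LinearMap.range p = ⊤ := Submodule.eq_top_of_finrank_eq (by exact_mod_cast h1.symm)
  ext x
  exact (isProj_range hp).map_id x (by rw [h2]; trivial)

/-- the trace of an involution -/
theorem trace_inv {u : V →ₗ[ℂ] V} (hu : u * u = 1) :
    LinearMap.trace ℂ V u = 2 * (finrank ℂ (LinearMap.ker (u - 1)) : ℂ) - finrank ℂ V := by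
  have h1 : LinearMap.IsProj (LinearMap.ker (u - 1)) ((1 / 2 : ℂ) • (u + 1)) := by
    refine ⟨fun x => ?_, fun x hx => ?_⟩
    · rw [LinearMap.mem_ker]
      have h2 : (u - 1) * ((1 / 2 : ℂ) • (u + 1)) = 0 := by
        rw [mul_smul_comm, sub_mul, mul_add, hu, mul_one, one_mul]
        simp [add_comm]
      exact congrArg (fun f : V →ₗ[ℂ] V => f x) h2
    · rw [LinearMap.mem_ker, LinearMap.sub_apply, sub_eq_zero] at hx
      rw [LinearMap.smul_apply, LinearMap.add_apply, hx]
      simp only [Module.End.one_apply]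
      rw [← two_smul ℂ x, smul_smul]
      norm_num
  have h2 := h1.trace
  rw [map_smul, map_add, LinearMap.trace_one, smul_eq_mul] at h2
  linear_combination 2 * h2

variable {A : Type*} [Group A] [Fintype A]

theorem avg_sq (r : A →* (V →ₗ[ℂ] V)) {lam : A → ℂ} (h : Lin lam) : avg r lam * avg r lam = avg r lam := by
  ext x
  exact avg_eq r h fun b => apply_avg r h b x

theorem avg_mul_avg (r : A →* (V →ₗ[ℂ] V)) {lam mu : A → ℂ} (hl : Lin lam) (hm : Lin mu) (h : lam ≠ mu) :
    avg r lam * avg r mu = 0 := by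
  obtain ⟨b, hb⟩ := Function.ne_iff.1 h
  have h1 : avg r lam * r b * avg r mu = lam b • (avg r lam * avg r mu) := by rw [avg_mul r hl, smul_mul_assoc]
  have h2 : avg r lam * r b * avg r mu = mu b • (avg r lam * avg r mu) := by
    rw [mul_assoc, mul_avg r hm, mul_smul_comm]
  have h3 : (lam b - mu b) • (avg r lam * avg r mu) = 0 := by rw [sub_smul, ← h1, ← h2, sub_self]
  exact (smul_eq_zero.1 h3).resolve_left (sub_ne_zero.2 hb)

end Proj

/-! ### duads -/

noncomputable instance fintype_code : Fintype (Multiplicative golayCode) := Fintype.ofFinite _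

/-- the duads -/
def D : Finset (Finset GolayPt) := Finset.univ.powersetCard 2

theorem mem_D {S : Finset GolayPt} : S ∈ D ↔ S.card = 2 := by
  unfold D
  rw [Finset.mem_powersetCard]
  exact ⟨fun h => h.2, fun h => ⟨Finset.subset_univ _, h⟩⟩

theorem card_D : D.card = 276 := by
  unfold D
  rw [Finset.card_powersetCard, Finset.card_univ]
  rfl

/-- the duad `{0, 1}` -/
def S0 : Finset GolayPt := {some 0, some 1}

theorem S0_mem : S0 ∈ D := mem_D.2 (by decide)

theorem smul_mem_D {g : M24} {S : Finset GolayPt} : g • S ∈ D ↔ S ∈ D := by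
  rw [mem_D, mem_D, Finset.card_smul_finset]

theorem exists_smul_S0 {S : Finset GolayPt} (hS : S ∈ D) : ∃ g : M24, g • S0 = S := by
  obtain ⟨p, q, hpq, rfl⟩ := Finset.card_eq_two.1 (mem_D.1 hS)
  have h5 : MulAction.IsMultiplyPretransitive M24 GolayPt 5 := Cfsg.Agent.S0366.result
  have h2 : MulAction.IsMultiplyPretransitive M24 GolayPt 2 :=
    MulAction.isMultiplyPretransitive_of_le (n := 5) (by norm_num) (by simp [GolayPt])
  obtain ⟨g, h0, h1⟩ := (MulAction.is_two_pretransitive_iff.1 h2) (show (some 0 : GolayPt) ≠ some 1 by decide) hpq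
  refine ⟨g, ?_⟩
  unfold S0
  rw [Finset.smul_finset_insert, Finset.smul_finset_singleton, h0, h1]

theorem chi_smul (g : M24) (S : Finset GolayPt) (c : Multiplicative golayCode) : chi (g • S) (wp g c) = chi S c := by
  unfold chi
  congr 1
  have h1 : g • S = S.map (g : Equiv.Perm GolayPt).toEmbedding :=
    Cfsg.Agent.SporadicA.GolayPerm.smul_finset_eq_map (g : Equiv.Perm GolayPt) S
  rw [h1, Finset.sum_map]
  refine Finset.sum_congr rfl fun p _ => ?_
  show ((c.toAdd : golayCode) : GolayPt → ZMod 2) ((g : Equiv.Perm GolayPt).symm ((g : Equiv.Perm GolayPt) p)) = _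
  rw [Equiv.symm_apply_apply]

theorem chi_inj_smul {g : M24} {S T : Finset GolayPt} (h : chi (g • S) = chi (g • T)) : chi S = chi T := by
  funext c
  rw [← chi_smul g S c, h, chi_smul]

theorem sep0 : ∀ a < 24, ∀ b < 24, a < b → ∃ k < 12,
    (Cfsg.Agent.SporadicA.GolayBase.basisMask k).testBit a ≠ (Cfsg.Agent.SporadicA.GolayBase.basisMask k).testBit b := by
  decide +kernel

theorem sep1 : ∀ a < 24, ∀ b < 24, a < b → (a = 0 ∧ b = 1) ∨ ∃ k < 12,
    xor ((Cfsg.Agent.SporadicA.GolayBase.basisMask k).testBit 0) ((Cfsg.Agent.SporadicA.GolayBase.basisMask k).testBit 1) ≠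
    xor ((Cfsg.Agent.SporadicA.GolayBase.basisMask k).testBit a) ((Cfsg.Agent.SporadicA.GolayBase.basisMask k).testBit b) := by
  decide +kernel

open Cfsg.Agent.SporadicA.GolayBase in
theorem basis_code (k : ℕ) (hk : k < 12) : word (basisMask k) ∈ golayCode := by
  obtain ⟨h0, h1, h2, h3, h4, h5, h6, h7, h8, h9, h10, h11⟩ := basis_mem
  interval_cases k
  · exact h0
  · exact h1
  · exact h2
  · exact h3
  · exact h4
  · exact h5
  · exact h6
  · exact h7
  · exact h8
  · exact h9
  · exact h10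
  · exact h11

theorem sg_ne {x y : ZMod 2} (h : x ≠ y) : sg x ≠ sg y := by
  rcases zcases x with rfl | rfl <;> rcases zcases y with rfl | rfl
  · exact absurd rfl h
  · rw [sg_zero, sg_one]; norm_num
  · rw [sg_zero, sg_one]; norm_num
  · exact absurd rfl h

theorem key2' : ∀ x y u v : Bool, xor x y ≠ xor u v →
    (if x then (1 : ZMod 2) else 0) + (if y then (1 : ZMod 2) else 0) ≠
    (if u then (1 : ZMod 2) else 0) + (if v then (1 : ZMod 2) else 0) := by decide

theorem key1' : ∀ x y : Bool, x ≠ y → (0 : ZMod 2) ≠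
    (if x then (1 : ZMod 2) else 0) + (if y then (1 : ZMod 2) else 0) := by decide

/-- two ordered points -/
theorem exists_idx {S : Finset GolayPt} (hS : S ∈ D) : ∃ p q : GolayPt, S = {p, q} ∧
    SporadicA.GolayBase.idx p < SporadicA.GolayBase.idx q := by
  obtain ⟨p, q, hpq, rfl⟩ := Finset.card_eq_two.1 (mem_D.1 hS)
  rcases Nat.lt_trichotomy (SporadicA.GolayBase.idx p) (SporadicA.GolayBase.idx q) with h | h | h
  · exact ⟨p, q, rfl, h⟩
  · exact absurd (SporadicA.GolayBase.idx_injective h) hpq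
  · exact ⟨q, p, Finset.pair_comm p q, h⟩

open Cfsg.Agent.SporadicA.GolayBase in
theorem chi_empty_ne {S : Finset GolayPt} (hS : S ∈ D) : chi ∅ ≠ chi S := by
  obtain ⟨p, q, rfl, hpq⟩ := exists_idx hS
  obtain ⟨k, hk, hne⟩ := sep0 _ (idx_lt p) _ (idx_lt q) hpq
  intro h
  have h1 := congrFun h (Multiplicative.ofAdd ⟨word (basisMask k), basis_code k hk⟩)
  unfold chi at h1
  revert h1
  refine sg_ne ?_
  have hpq' : p ≠ q := by rintro rfl; exact lt_irrefl _ hpq
  rw [Finset.sum_empty, Finset.sum_pair hpq']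
  exact key1' _ _ hne

open Cfsg.Agent.SporadicA.GolayBase in
theorem chi_S0_ne {S : Finset GolayPt} (hS : S ∈ D) (h0 : S ≠ S0) : chi S0 ≠ chi S := by
  obtain ⟨p, q, rfl, hpq⟩ := exists_idx hS
  rcases sep1 _ (idx_lt p) _ (idx_lt q) hpq with ⟨h1, h2⟩ | ⟨k, hk, hne⟩
  · exfalso
    apply h0
    have e1 : p = some 0 := idx_injective h1
    have e2 : q = some 1 := idx_injective h2
    rw [e1, e2]
    rfl
  intro h
  have h1 := congrFun h (Multiplicative.ofAdd ⟨word (basisMask k), basis_code k hk⟩)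
  unfold chi at h1
  revert h1
  refine sg_ne ?_
  have hpq' : p ≠ q := by rintro rfl; exact lt_irrefl _ hpq
  unfold S0
  rw [Finset.sum_pair (by decide), Finset.sum_pair hpq']
  exact key2' _ _ _ _ hne

theorem chi_ne {S T : Finset GolayPt} (hS : S ∈ D) (hT : T ∈ D) (h : S ≠ T) : chi S ≠ chi T := by
  obtain ⟨g, rfl⟩ := exists_smul_S0 hS
  intro h1
  have h2 : T = g • (g⁻¹ • T) := (smul_inv_smul g T).symm
  rw [h2] at h1
  refine chi_S0_ne (S := g⁻¹ • T) (smul_mem_D.2 hT) ?_ (chi_inj_smul h1)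
  rintro h3
  apply h
  rw [← h3, smul_inv_smul]

/-- the family of sets: empty set and duads -/
def F : Finset (Finset GolayPt) := insert ∅ D

theorem empty_notMem_D : (∅ : Finset GolayPt) ∉ D := by
  rw [mem_D, Finset.card_empty]; norm_num

theorem chi_ne_F {S T : Finset GolayPt} (hS : S ∈ F) (hT : T ∈ F) (h : S ≠ T) : chi S ≠ chi T := by
  rcases Finset.mem_insert.1 hS with rfl | hS <;> rcases Finset.mem_insert.1 hT with rfl | hT
  · exact absurd rfl h
  · exact chi_empty_ne hT
  · exact (chi_empty_ne hS).symm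
  · exact chi_ne hS hT h

theorem smul_mem_F {g : M24} {S : Finset GolayPt} (hS : S ∈ F) : g • S ∈ F := by
  rcases Finset.mem_insert.1 hS with rfl | hS
  · rw [Finset.smul_finset_empty]
    exact hS
  · exact Finset.mem_insert_of_mem (smul_mem_D.2 hS)

/-! ### the parts -/

variable {W : Type} [AddCommGroup W] [Module ℂ W]

/-- the projection on the part of `S` -/
noncomputable def pS (R : Spor.Co1 →* (W →ₗ[ℂ] W)) (S : Finset GolayPt) : W →ₗ[ℂ] W := avg (rcode R) (chi S)

/-- the representation of `M24` -/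
noncomputable def rp (R : Spor.Co1 →* (W →ₗ[ℂ] W)) : M24 →* (W →ₗ[ℂ] W) := R.comp (pr.comp permCo0)

theorem rp_mul_pS (R : Spor.Co1 →* (W →ₗ[ℂ] W)) (g : M24) (S : Finset GolayPt) :
    rp R g * pS R S = pS R (g • S) * rp R g := by
  unfold pS avg
  rw [mul_smul_comm, smul_mul_assoc, Finset.mul_sum, Finset.sum_mul]
  congr 1
  refine Fintype.sum_equiv (wp g).toEquiv _ _ fun c => ?_
  rw [mul_smul_comm, smul_mul_assoc]
  show chi S c • (rp R g * rcode R c) = chi (g • S) (wp g c) • (rcode R (wp g c) * rp R g)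
  rw [chi_smul]
  congr 1
  show R (pr (permCo0 g)) * R (pr (signCo0 c.toAdd)) = R (pr (signCo0 (wordPerm g c.toAdd))) * R (pr (permCo0 g))
  rw [← map_mul, ← map_mul, ← map_mul, ← map_mul, perm_mul_sign]

variable [FiniteDimensional ℂ W] (R : Spor.Co1 →* (W →ₗ[ℂ] W))

theorem pS_sq (S : Finset GolayPt) : pS R S * pS R S = pS R S := avg_sq _ (lin_chi S)

theorem pS_mul {S T : Finset GolayPt} (hS : S ∈ F) (hT : T ∈ F) (h : S ≠ T) : pS R S * pS R T = 0 :=
  avg_mul_avg _ (lin_chi S) (lin_chi T) (chi_ne_F hS hT h)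

theorem trace_pS (S : Finset GolayPt) : LinearMap.trace ℂ W (pS R S) = (finrank ℂ (eig (rcode R) (chi S)) : ℂ) :=
  trace_avg _ (lin_chi S)

theorem rp_inv (g : M24) : rp R g * rp R g⁻¹ = 1 := by rw [← map_mul, mul_inv_cancel, map_one]

theorem trace_smul (g : M24) (S : Finset GolayPt) :
    LinearMap.trace ℂ W (pS R (g • S)) = LinearMap.trace ℂ W (pS R S) := by
  have h1 : pS R (g • S) = rp R g * pS R S * rp R g⁻¹ := by
    rw [rp_mul_pS, mul_assoc, rp_inv, mul_one]
  rw [h1, LinearMap.trace_mul_comm, ← mul_assoc, ← map_mul, inv_mul_cancel, map_one, one_mul]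

/-- the dimension of the fixed space -/
noncomputable def dA : ℕ := finrank ℂ (eig (rcode R) (chi ∅))

/-- the multiplicity of a duad -/
noncomputable def dB : ℕ := finrank ℂ (eig (rcode R) (chi S0))

/-- the multiplicity of a tetrad -/
noncomputable def dC : ℕ := finrank ℂ (eig (rcode R) (chi {some 0, some 1, some 2, some 3}))

theorem sum_eq : dA R + 276 * dB R + 1771 * dC R = finrank ℂ W := mult_sum R

theorem trace_empty : LinearMap.trace ℂ W (pS R ∅) = dA R := trace_pS R ∅

theorem trace_duad {S : Finset GolayPt} (hS : S ∈ D) : LinearMap.trace ℂ W (pS R S) = dB R := by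
  obtain ⟨g, rfl⟩ := exists_smul_S0 hS
  rw [trace_smul, trace_pS]
  rfl

theorem finrank_duad {S : Finset GolayPt} (hS : S ∈ D) : finrank ℂ (eig (rcode R) (chi S)) = dB R := by
  have h1 := trace_duad R hS
  rw [trace_pS] at h1
  exact_mod_cast h1

/-- the sum of the projections -/
noncomputable def pF : W →ₗ[ℂ] W := ∑ S ∈ F, pS R S

theorem pF_sq : pF R * pF R = pF R := by
  unfold pF
  rw [Finset.sum_mul_sum]
  refine Finset.sum_congr rfl fun S hS => ?_
  rw [Finset.sum_eq_single S]
  · exact pS_sq R S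
  · intro T hT hne
    exact pS_mul R hS hT hne.symm
  · intro h; exact absurd hS h

theorem pF_eq_one (hc : dC R = 0) : pF R = 1 := by
  refine eq_one_of_trace (pF_sq R) ?_
  unfold pF F
  rw [Finset.sum_insert empty_notMem_D, map_add, map_sum, trace_empty, Finset.sum_congr rfl fun S hS => trace_duad R hS,
    Finset.sum_const, card_D, ← sum_eq R, hc]
  push_cast
  rw [nsmul_eq_mul]
  push_cast
  ring

theorem trace_move (g : M24) {S : Finset GolayPt} (hS : S ∈ F) (h : g • S ≠ S) :
    LinearMap.trace ℂ W (rp R g * pS R S) = 0 := by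
  have h1 : rp R g * pS R S = rp R g * pS R S * pS R S := by rw [mul_assoc, pS_sq]
  rw [h1, LinearMap.trace_mul_comm, rp_mul_pS, ← mul_assoc, pS_mul R hS (smul_mem_F hS) h.symm, zero_mul, map_zero]

/-- **The trace of an element of `M24`.** -/
theorem trace_split (hc : dC R = 0) (g : M24) :
    LinearMap.trace ℂ W (rp R g) = LinearMap.trace ℂ W (rp R g * pS R ∅) +
      ∑ S ∈ D.filter (fun S => g • S = S), LinearMap.trace ℂ W (rp R g * pS R S) := by
  have h1 : rp R g = rp R g * pF R := by rw [pF_eq_one R hc, mul_one]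
  rw [h1]
  conv_lhs => unfold pF F
  rw [Finset.sum_insert empty_notMem_D, mul_add, map_add, ← h1]
  congr 1
  rw [Finset.mul_sum, map_sum, Finset.sum_filter]
  refine Finset.sum_congr rfl fun S hS => ?_
  split_ifs with h
  · rfl
  · exact trace_move R g (Finset.mem_insert_of_mem hS) h

/-! ### the action on a part -/

theorem rp_mem {g : M24} {S : Finset GolayPt} (h : g • S = S) {x : W} (hx : x ∈ eig (rcode R) (chi S)) :
    rp R g x ∈ eig (rcode R) (chi S) := by
  have h1 : pS R S x = x := (isProj (rcode R) (lin_chi S)).map_id x hx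
  have h2 : rp R g x = pS R S (rp R g x) := by
    conv_lhs => rw [← h1]
    have := congrArg (fun f : W →ₗ[ℂ] W => f x) (rp_mul_pS R g S)
    rw [h] at this
    exact this
  rw [h2]
  exact (isProj (rcode R) (lin_chi S)).map_mem _

theorem trace_restrict {g : M24} {S : Finset GolayPt} (h : g • S = S) :
    LinearMap.trace ℂ W (rp R g * pS R S) =
      LinearMap.trace ℂ (eig (rcode R) (chi S)) ((rp R g).restrict fun x hx => rp_mem R h hx) := by
  have hf : ∀ x, (rp R g * pS R S) x ∈ eig (rcode R) (chi S) := fun x =>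
    rp_mem R h ((isProj (rcode R) (lin_chi S)).map_mem x)
  rw [← LinearMap.trace_restrict_eq_of_forall_mem _ _ hf]
  congr 1
  ext x
  rw [LinearMap.coe_restrict_apply, LinearMap.coe_restrict_apply, Module.End.mul_apply]
  congr 1
  exact (isProj (rcode R) (lin_chi S)).map_id _ x.2

/-- the trace of an involution on a part -/
theorem trace_part {g : M24} (hg : g * g = 1) {S : Finset GolayPt} (h : g • S = S) :
    ∃ m : ℕ, m ≤ finrank ℂ (eig (rcode R) (chi S)) ∧
      LinearMap.trace ℂ W (rp R g * pS R S) = 2 * (m : ℂ) - finrank ℂ (eig (rcode R) (chi S)) := by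
  rw [trace_restrict R h]
  refine ⟨finrank ℂ (LinearMap.ker ((rp R g).restrict (fun _ hx => rp_mem R h hx) - 1)), Submodule.finrank_le _, ?_⟩
  refine trace_inv ?_
  ext x
  have h1 : rp R g (rp R g x) = x := by
    have : rp R g * rp R g = 1 := by rw [← map_mul, hg, map_one]
    exact congrArg (fun f : W →ₗ[ℂ] W => f x) this
  exact h1

/-- the representation of `M24` on the fixed space of `2^11` -/
noncomputable def rA : M24 →* (eig (rcode R) (chi ∅) →ₗ[ℂ] eig (rcode R) (chi ∅)) where
  toFun g := (rp R g).restrict fun x hx => rp_mem R (Finset.smul_finset_empty g) hx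
  map_one' := by
    ext x
    show rp R 1 x = x
    rw [map_one]
    rfl
  map_mul' g h := by
    ext x
    show rp R (g * h) x = rp R g (rp R h x)
    rw [map_mul]
    rfl

theorem trace_rA (g : M24) : LinearMap.trace ℂ _ (rA R g) = LinearMap.trace ℂ W (rp R g * pS R ∅) :=
  (trace_restrict R (Finset.smul_finset_empty g)).symm

end Cfsg.Agent.H590.Ore.CoOneDeg
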