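import Cfsg.Agent.H653.Sieve.Col
import Cfsg.Agent.H596.Degree
import Cfsg.Agent.H590.Ore.CoOnePart

/-!
# Exact values on the `p`-singular elements (helper590)

`P` a Sylow subgroup of order `p`, `|N(P) : C(P)| = p - 1`, `C(P) = P × K`, `N(P)` acts trivially on `Irr K`:
`exact_value` : `χ (x s) = ε θ(s)` for all `1 ≠ x ∈ P`, `s ∈ K`, where `ε = ± 1`, `θ ∈ Irr K`, or `χ` vanishes.
`six` : if `|K| = 6` and `K` is not abelian then `(χ(x), χ(x s)) ∈ {(0, 0), ± (1, 1), ± (1, -1), ± (2, 0)}` for the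
involutions `s` of `K`.
-/

set_option autoImplicit false
set_option linter.unusedSectionVars false

open Cfsg Subgroup
open scoped ComplexConjugate

namespace Cfsg.Agent.H590.Ore.Exact

open Cfsg.Agent.H653.Sieve Cfsg.Agent.Characters.Core
open Cfsg.Agent.SmallSimple.ThetaSetup Cfsg.Agent.SmallSimple.ThetaOrtho
open Cfsg.Agent.SmallSimple.TheoremC Cfsg.Agent.SmallSimple.TheoremCCor
open Cfsg.Agent.SmallSimple.PrimeDual Cfsg.Agent.SmallSimple.ThetaCount

universe u

variable {G : Type u} [Group G] [Finite G] [Fintype (IrrCharacter G)] {p : ℕ} [hp : Fact p.Prime] {P : Sylow p G}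
  {K : Subgroup G}

/-- **The exact values.** -/
theorem exact_value (hK : IsComp p (P : Subgroup G) K) (hP : Nat.card P = p)
    (he : (centralizer ((P : Subgroup G) : Set G)).relIndex (normalizer ((P : Subgroup G) : Set G)) = p - 1)
    (horb : ∀ θ : IrrCharacter K, orb P K (θ : K → ℂ) = {θ}) (χ : IrrCharacter G) :
    (∀ g : G, p ∣ orderOf g → (χ : G → ℂ) g = 0) ∨ ∃ (θ : IrrCharacter K) (ε : ℤ), (ε = 1 ∨ ε = -1) ∧
      ∀ x : (P : Subgroup G), x ≠ 1 → ∀ s : K, (χ : G → ℂ) (x * s) = ε * (θ : K → ℂ) s := by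
  classical
  by_cases hv : ∃ g : G, p ∣ orderOf g ∧ (χ : G → ℂ) g ≠ 0
  · right
    obtain ⟨θ, hθ⟩ := exists_mem_Over hK hP (χ := χ) hv
    have hcm := card_stabAct_mul_card_orb hK hP θ.2
    rw [he, horb θ, Finset.card_singleton, mul_one] at hcm
    obtain ⟨NE, X, ε, d, S, hB, -, hNE, hX, hε, hd, hval, hvalX, -, -, -⟩ :=
      theoremC hK hP θ.2 hcm (mul_one _)
    have key : ∀ x : (P : Subgroup G), x ≠ 1 → ∀ s : K,
        (χ : G → ℂ) (x * s) = part (θ : K → ℂ) (χ : G → ℂ) x * (θ : K → ℂ) s := by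
      intro x hx s
      rw [apply_mul_orb hK hP θ.2 hθ hx s, horb θ, Finset.sum_singleton]
    rcases (hB χ).1 hθ with h | h
    · refine ⟨θ, ε χ, hε χ h, fun x hx s => ?_⟩
      rw [key x hx s, hval χ h x hx]
    · obtain ⟨hSc, hS1, -, hSv⟩ := hvalX χ h
      have hfin := finite_dual (Q := (P : Subgroup G)) hp.out hP
      have := Fintype.ofFinite ((P : Subgroup G) →* ℂˣ)
      have hS : S χ = (Finset.univ : Finset ((P : Subgroup G) →* ℂˣ)).erase 1 := by
        apply Finset.eq_of_subset_of_card_le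
        · intro l hl
          rw [Finset.mem_erase]
          exact ⟨fun h => hS1 (h ▸ hl), Finset.mem_univ _⟩
        · rw [Finset.card_erase_of_mem (Finset.mem_univ _), Finset.card_univ, ← Nat.card_eq_fintype_card,
            card_dual hp.out hP, hSc]
      refine ⟨θ, -d, by rcases hd with rfl | rfl <;> simp, fun x hx s => ?_⟩
      have h2 := sum_dual_eq_zero hp.out (Q := (P : Subgroup G)) hP hx
      rw [← Finset.add_sum_erase _ _ (Finset.mem_univ (1 : (P : Subgroup G) →* ℂˣ))] at h2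
      rw [key x hx s, hSv x hx, hS]
      have h3 : ∑ l ∈ (Finset.univ : Finset ((P : Subgroup G) →* ℂˣ)).erase 1, ((l x : ℂˣ) : ℂ) = -1 := by
        have h4 : (((1 : (P : Subgroup G) →* ℂˣ) x : ℂˣ) : ℂ) = 1 := by simp
        rw [h4] at h2
        linear_combination h2
      rw [h3]
      push_cast
      ring
  · left
    push Not at hv
    exact hv

/-- the orbits on `Irr K` if `K` is nonabelian of order 6 -/
theorem orb_six (hK : IsComp p (P : Subgroup G) K) (h6 : Nat.card K = 6) (hna : ¬ ∀ a b : K, a * b = b * a)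
    (θ : IrrCharacter K) : orb P K (θ : K → ℂ) = {θ} := by
  classical
  have : Finite (IrrCharacter K) := finite_irr
  have := Fintype.ofFinite (IrrCharacter K)
  have hsum := SmallSimple.DegreeData.sum_sq (G := K)
  rw [h6] at hsum
  let o : IrrCharacter K := ⟨1, isIrr_one⟩
  have hoc : charDegree (o : K → ℂ) = 1 := by
    unfold charDegree
    simp [o]
  have horo : orb P K (o : K → ℂ) = {o} := orb_of_stable isIrr_one fun n hn => tw_one_char hK hn
  obtain ⟨θ0, hθ0⟩ : ∃ θ0 : IrrCharacter K, charDegree (θ0 : K → ℂ) ≠ 1 := by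
    by_contra hcon
    push Not at hcon
    exact hna (Cfsg.Agent.H596.comm_of_charDegree_eq_one hcon)
  have hpos : ∀ ψ : IrrCharacter K, charDegree (ψ : K → ℂ) ≠ 0 := by
    intro ψ h0
    have h1 := Blocks.Knorr.charDegree_dvd ψ.2
    rw [h0, zero_dvd_iff] at h1
    exact Nat.card_pos.ne' h1
  have hsub : ∀ T : Finset (IrrCharacter K), ∑ ψ ∈ T, charDegree (ψ : K → ℂ) ^ 2 ≤ 6 := fun T => by
    rw [← hsum]
    exact Finset.sum_le_sum_of_subset (Finset.subset_univ _)
  have hself : θ ∈ orb P K (θ : K → ℂ) := mem_orb.2 ⟨1, one_mem _, tw_one _⟩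
  rw [Finset.eq_singleton_iff_unique_mem]
  refine ⟨hself, fun θ' hθ' => ?_⟩
  by_contra hne
  have hdeg : charDegree (θ' : K → ℂ) = charDegree (θ : K → ℂ) := by
    unfold charDegree
    rw [orb_apply_one hK hθ']
  by_cases h1 : charDegree (θ : K → ℂ) = 1
  · have hθo : θ ≠ o := by
      rintro rfl
      rw [horo, Finset.mem_singleton] at hθ'
      exact hne hθ'
    have hθ'o : θ' ≠ o := by
      rintro rfl
      obtain ⟨n, hn, h⟩ := mem_orb.1 hθ'
      apply hθo
      apply Subtype.ext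
      have h2 : tw (tw (θ : K → ℂ) n) n⁻¹ = θ := by
        rw [← tw_mul hK _ hn (inv_mem hn), mul_inv_cancel, tw_one]
      rw [h] at h2
      rw [← h2]
      exact tw_one_char hK (inv_mem hn)
    have hne0 : θ0 ≠ o := fun h => hθ0 (by rw [h]; exact hoc)
    have hne1 : θ0 ≠ θ := fun h => hθ0 (by rw [h]; exact h1)
    have hne2 : θ0 ≠ θ' := fun h => hθ0 (by rw [h, hdeg]; exact h1)
    have h3 := hsub {θ0, o, θ, θ'}
    rw [Finset.sum_insert (by simp [hne0, hne1, hne2]), Finset.sum_insert (by simp [Ne.symm hθo, Ne.symm hθ'o]),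
      Finset.sum_pair (Ne.symm hne), hdeg, h1, hoc] at h3
    have h4 := hpos θ0
    have h5 : 2 ^ 2 ≤ charDegree (θ0 : K → ℂ) ^ 2 := Nat.pow_le_pow_left (by omega) 2
    omega
  · have h3 := hsub {θ, θ'}
    rw [Finset.sum_pair (Ne.symm hne), hdeg] at h3
    have h4 := hpos θ
    have h5 : 2 ^ 2 ≤ charDegree (θ : K → ℂ) ^ 2 := Nat.pow_le_pow_left (by omega) 2
    omega

/-- irreducible characters of a group of order 6 on involutions -/
theorem val_six {K : Type u} [Group K] [Finite K] (h6 : Nat.card K = 6) (θ : IrrCharacter K) {s : K} (hs : s * s = 1)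
    (hs1 : s ≠ 1) : ((θ : K → ℂ) 1 = 1 ∧ ((θ : K → ℂ) s = 1 ∨ (θ : K → ℂ) s = -1)) ∨
      ((θ : K → ℂ) 1 = 2 ∧ (θ : K → ℂ) s = 0) := by
  classical
  have := Fintype.ofFinite K
  obtain ⟨θ, n, ρ, hρ, rfl⟩ := θ
  show (ρ.character 1 = 1 ∧ (ρ.character s = 1 ∨ ρ.character s = -1)) ∨ (ρ.character 1 = 2 ∧ ρ.character s = 0)
  have h1 : ρ.character 1 = n := by rw [Representation.char_one]; simp
  have hs' : ρ s * ρ s = 1 := by rw [← map_mul, hs, map_one]
  obtain ⟨m, hm, hm2⟩ : ∃ m : ℕ, m ≤ n ∧ ρ.character s = 2 * (m : ℂ) - n := by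
    refine ⟨Module.finrank ℂ (LinearMap.ker (ρ s - 1)), ?_, ?_⟩
    · have := Submodule.finrank_le (LinearMap.ker (ρ s - 1))
      rwa [Module.finrank_fin_fun] at this
    · have := Cfsg.Agent.H590.Ore.CoOneDeg.trace_inv (u := ρ s) hs'
      rwa [Module.finrank_fin_fun] at this
  have hin := classInner_irr_self (⟨n, ρ, hρ, rfl⟩ : IsIrrCharacter K ρ.character)
  rw [classInner_def] at hin
  have hsum : ∑ g : K, Complex.normSq (ρ.character g) = 6 := by
    have h2 : ∑ g : K, ρ.character g * conj (ρ.character g) = 6 := by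
      rw [h6] at hin
      have h3 : (6 : ℂ) ≠ 0 := by norm_num
      push_cast at hin
      field_simp at hin
      linear_combination hin
    have h4 := congrArg Complex.re h2
    rw [Complex.re_sum] at h4
    simp only [Complex.mul_conj, Complex.ofReal_re] at h4
    rw [h4]
    norm_num
  have h7 : Complex.normSq (ρ.character 1) + Complex.normSq (ρ.character s) ≤ 6 := by
    rw [← hsum, ← Finset.sum_pair (f := fun g => Complex.normSq (ρ.character g)) (Ne.symm hs1)]
    exact Finset.sum_le_sum_of_subset_of_nonneg (Finset.subset_univ _) fun _ _ _ => Complex.normSq_nonneg _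
  rw [h1, hm2] at h7
  have h8 : Complex.normSq (n : ℂ) = (n : ℝ) ^ 2 := by rw [Complex.normSq_natCast]; ring
  have h9 : Complex.normSq (2 * (m : ℂ) - n) = (2 * (m : ℝ) - n) ^ 2 := by
    have : (2 * (m : ℂ) - n) = ((2 * (m : ℝ) - n : ℝ) : ℂ) := by push_cast; ring
    rw [this, Complex.normSq_ofReal]
    ring
  rw [h8, h9] at h7
  have hn0 : n ≠ 0 := by
    rintro rfl
    exact isIrr_apply_one_ne_zero (⟨0, ρ, hρ, rfl⟩ : IsIrrCharacter K ρ.character) (by rw [h1]; simp)
  have hn : n ≤ 2 := by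
    by_contra hcon
    have : (3 : ℝ) ≤ n := by exact_mod_cast (by omega : 3 ≤ n)
    nlinarith [sq_nonneg (2 * (m : ℝ) - n)]
  rw [h1, hm2]
  interval_cases n
  · exact absurd rfl hn0
  · interval_cases m
    · left; norm_num
    · left; norm_num
  · interval_cases m
    · norm_num at h7
    · right; norm_num
    · norm_num at h7

/-- `|N(P) : C(P)|` from the orders -/
theorem relIndex_eq [IsSimpleGroup G] (hG : ¬ IsMulCommutative G) {N : ℕ} (hN : Nat.card G = N) (P : Sylow p G) {x : G}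
    (hx : orderOf x = p) (hPx : (P : Subgroup G) = zpowers x)
    {k e : ℕ} (hc : Nat.card (centralizer ({x} : Set G)) = p * k) (h1 : p ∣ N) (h2 : ¬ p ^ 2 ∣ N)
    (huniq : ((List.range p).all fun e' => (e' == e) || ((p - 1) % e' != 0) || (N % (p * e' * k) != 0) ||
      ((N / (p * e' * k)) % p != 1)) = true) :
    (centralizer ((P : Subgroup G) : Set G)).relIndex (normalizer ((P : Subgroup G) : Set G)) = e := by
  have hP : Nat.card P = p := by
    have h3 : Nat.card (P : Subgroup G) = p := by rw [hPx, Nat.card_zpowers, hx]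
    exact h3
  obtain ⟨e', K, hL⟩ := SmallSimple.PrimeLocal.exists_local hG (by rwa [hN]) (by rwa [hN]) P
  have hCx : centralizer ((P : Subgroup G) : Set G) = centralizer ({x} : Set G) := by
    rw [hPx, SmallSimple.SelfCentPrime.centralizer_zpowers]
  have hCP : Nat.card (centralizer ((P : Subgroup G) : Set G)) = p * k := by rw [hCx, hc]
  have hKk : Nat.card K = k := by
    have h3 : p * Nat.card K = p * k := by rw [← hL.card_centralizer]; exact hCP
    exact Nat.eq_of_mul_eq_mul_left hp.out.pos h3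
  have hN' : Nat.card (normalizer ((P : Subgroup G) : Set G)) = p * e' * k := by
    have := hL.card_normalizer
    rw [hKk] at this
    exact this
  have hrel : (centralizer ((P : Subgroup G) : Set G)).relIndex (normalizer ((P : Subgroup G) : Set G)) = e' := by
    have hle : centralizer ((P : Subgroup G) : Set G) ≤ normalizer ((P : Subgroup G) : Set G) :=
      centralizer_le_normalizer _
    have h3 := Subgroup.index_mul_card ((centralizer ((P : Subgroup G) : Set G)).subgroupOf
      (normalizer ((P : Subgroup G) : Set G)))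
    rw [Nat.card_congr (Subgroup.subgroupOfEquivOfLe hle).toEquiv, hCP, hN'] at h3
    have hk : 0 < k := by rw [← hKk]; exact Nat.card_pos
    have h4 : 0 < p * k := Nat.mul_pos hp.out.pos hk
    apply Nat.eq_of_mul_eq_mul_right h4
    rw [Subgroup.relIndex, h3]; ring
  rw [hrel]
  by_contra hne
  have hlt : e' < p := by
    have := Nat.le_of_dvd (by have := hp.out.two_le; omega) hL.dvd_pred
    have := hp.out.two_le
    omega
  have h3 := List.all_eq_true.1 huniq e' (List.mem_range.2 hlt)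
  have hce := hL.card_eq
  rw [hKk, hN] at hce
  have hpos : 0 < p * e' * k := by
    have hk : 0 < k := by rw [← hKk]; exact Nat.card_pos
    have he1 := hL.one_lt
    exact Nat.mul_pos (Nat.mul_pos hp.out.pos (by omega)) hk
  have h4 : N % (p * e' * k) = 0 := by rw [hce]; exact Nat.mul_mod_left _ _
  have h5 : N / (p * e' * k) = Nat.card (Sylow p G) := by rw [hce]; exact Nat.mul_div_cancel _ hpos
  have h6 : Nat.card (Sylow p G) % p = 1 := by
    have h7 := card_sylow_modEq_one p G
    have h8 : Nat.card (Sylow p G) % p = 1 % p := h7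
    rw [h8, Nat.mod_eq_of_lt hp.out.one_lt]
  have h7 : (p - 1) % e' = 0 := Nat.mod_eq_zero_of_dvd hL.dvd_pred
  simp only [Bool.or_eq_true, beq_iff_eq, bne_iff_ne, ne_eq] at h3
  rcases h3 with ((h3 | h3) | h3) | h3
  · exact hne h3
  · exact h3 h7
  · exact h3 h4
  · rw [h5] at h3; exact h3 h6

/-- **`K` nonabelian of order 6.** `x` of order `p` with nonabelian centralizer of order `6 p`, `s` an involution
commuting with `x`. -/
theorem six [IsSimpleGroup G] (hG : ¬ IsMulCommutative G) {N : ℕ} (hN : Nat.card G = N) (h5 : 5 ≤ p) {x s : G}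
    (hx : orderOf x = p) (hc : Nat.card (centralizer ({x} : Set G)) = p * 6)
    (hna : ∃ u v : G, Commute u x ∧ Commute v x ∧ ¬ Commute u v) (h1 : p ∣ N) (h2 : ¬ p ^ 2 ∣ N)
    (huniq : ((List.range p).all fun e' => (e' == p - 1) || ((p - 1) % e' != 0) || (N % (p * e' * 6) != 0) ||
      ((N / (p * e' * 6)) % p != 1)) = true)
    (hs : s * s = 1) (hs1 : s ≠ 1) (hxs : Commute x s) (χ : IrrCharacter G) :
    ∃ u v : ℤ, (u = 0 ∨ u = 1 ∨ u = -1) ∧ (v = 0 ∨ v = 1 ∨ v = -1) ∧
      ∀ y ∈ zpowers x, y ≠ 1 → (χ : G → ℂ) y = u + v ∧ (χ : G → ℂ) (y * s) = u - v := by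
  have hpg : IsPGroup p (zpowers x) := IsPGroup.of_card (n := 1) (by rw [Nat.card_zpowers, hx, pow_one])
  obtain ⟨P, hxP⟩ := hpg.exists_le_sylow
  have hP : Nat.card P = p := SmallSimple.PrimeLocal.card_of_not_sq_dvd (by rwa [hN]) (by rwa [hN]) P
  have hPx : (P : Subgroup G) = zpowers x := by
    have h3 : Nat.card (zpowers x) = Nat.card (P : Subgroup G) := by rw [Nat.card_zpowers, hx]; exact hP.symm
    exact (Subgroup.eq_of_le_of_card_ge hxP h3.ge).symm
  have he := relIndex_eq hG hN P hx hPx hc h1 h2 huniq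
  obtain ⟨K, hK⟩ := exists_isComp P hP
  have hCx : centralizer ((P : Subgroup G) : Set G) = centralizer ({x} : Set G) := by
    rw [hPx, SmallSimple.SelfCentPrime.centralizer_zpowers]
  have h6 : Nat.card K = 6 := by
    have h3 := card_centralizer hK hP
    rw [hCx, hc] at h3
    exact (Nat.eq_of_mul_eq_mul_left hp.out.pos h3).symm
  have hnaK : ¬ ∀ a b : K, a * b = b * a := by
    intro hab
    obtain ⟨u, v, hu, hv, huv⟩ := hna
    have hmem : ∀ w : G, Commute w x → w ∈ centralizer ((P : Subgroup G) : Set G) := fun w hw => by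
      rw [hCx, mem_centralizer_singleton_iff]; exact hw.eq
    obtain ⟨a, ha, b, hb, rfl⟩ := hK.exists_mul hP (hmem u hu)
    obtain ⟨c, hc', d, hd, rfl⟩ := hK.exists_mul hP (hmem v hv)
    apply huv
    have hac : Commute a c := mem_centralizer_iff.1 (le_centralizer hP hc') a ha
    have had : Commute a d := hK.comm ha hd
    have hbc : Commute b c := (hK.comm hc' hb).symm
    have hbd : Commute b d := congrArg Subtype.val (hab ⟨b, hb⟩ ⟨d, hd⟩)
    exact (hac.mul_right had).mul_left (hbc.mul_right hbd)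
  have hsK : s ∈ K := by
    rw [hK s]
    refine ⟨by rw [hCx, mem_centralizer_singleton_iff]; exact hxs.eq.symm, fun hd => ?_⟩
    have h3 : orderOf s ∣ 2 := orderOf_dvd_of_pow_eq_one (by rw [pow_two, hs])
    have := Nat.le_of_dvd (by norm_num) (hd.trans h3)
    omega
  rcases exact_value hK hP he (orb_six hK h6 hnaK) χ with h3 | ⟨θ, ε, hε, h3⟩
  · refine ⟨0, 0, Or.inl rfl, Or.inl rfl, fun y hy hy1 => ?_⟩
    have ho : orderOf y = p := by
      rw [← hPx] at hy
      exact Blocks.CyclicOrtho.orderOf_eq P hP hy hy1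
    have hys : Commute y s := by
      obtain ⟨n, rfl⟩ := mem_zpowers_iff.1 hy
      exact hxs.zpow_left n
    have hos : orderOf s = 2 := orderOf_eq_prime (by rw [pow_two, hs]) hs1
    have h4 : orderOf (y * s) = p * 2 := by
      rw [hys.orderOf_mul_eq_mul_orderOf_of_coprime, ho, hos]
      rw [ho, hos]
      refine (Nat.coprime_primes hp.out Nat.prime_two).2 ?_
      omega
    rw [h3 y (by rw [ho]), h3 (y * s) (by rw [h4]; exact dvd_mul_right _ _)]
    simp
  · have hv := val_six h6 θ (s := ⟨s, hsK⟩) (Subtype.ext hs) (fun h => hs1 (congrArg Subtype.val h))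
    have key : ∀ y ∈ zpowers x, y ≠ 1 → (χ : G → ℂ) y = ε * (θ : K → ℂ) 1 ∧ (χ : G → ℂ) (y * s) = ε * (θ : K → ℂ) ⟨s, hsK⟩ := by
      intro y hy hy1
      rw [← hPx] at hy
      have h4 := h3 ⟨y, hy⟩ (fun h => hy1 (congrArg Subtype.val h)) 1
      have h5 := h3 ⟨y, hy⟩ (fun h => hy1 (congrArg Subtype.val h)) ⟨s, hsK⟩
      rw [OneMemClass.coe_one, mul_one] at h4
      exact ⟨h4, h5⟩
    have hε' : ε = 0 ∨ ε = 1 ∨ ε = -1 := Or.inr hε
    rcases hv with ⟨e1, e2 | e2⟩ | ⟨e1, e2⟩
    · refine ⟨ε, 0, hε', Or.inl rfl, fun y hy hy1 => ?_⟩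
      rw [(key y hy hy1).1, (key y hy hy1).2, e1, e2]
      simp
    · refine ⟨0, ε, Or.inl rfl, hε', fun y hy hy1 => ?_⟩
      rw [(key y hy hy1).1, (key y hy hy1).2, e1, e2]
      simp
    · refine ⟨ε, ε, hε', hε', fun y hy hy1 => ?_⟩
      rw [(key y hy hy1).1, (key y hy hy1).2, e1, e2]
      constructor
      · ring
      · simp

end Cfsg.Agent.H590.Ore.Exact
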