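import Cfsg.Agent.H590.Ore.CoOnePart
import Cfsg.Agent.H843.IMC.Co1B
import Cfsg.Agent.CoOneType.ClosingCo1
import Cfsg.Agent.H121.Cyc.Mathieu
import Cfsg.Agent.H823.Rec.Co1Facts
import Cfsg.Agent.H686.CharKit
import Cfsg.Agent.SporadicStructure.M24El
import Cfsg.Agent.H866.InvolType
import Cfsg.Agent.S0365
import Cfsg.Agent.H590.Ore.Exact


/-!
# Degrees of `Co1` below 1771 (helper590)

`bound` : if `1 ≠ χ ∈ Irr(Co1)` has degree less than 1771 then `χ(1) = a + 276 b` with `22 a ≤ 552 b + 105` and `a ≤ 4` or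
`21 ≤ a`; `no_deg` : the degrees 288, 495, 702, 770, 990, 1000, 1001, 1024, 1080, 1287, 1300, 1575 do not occur.
-/

set_option autoImplicit false

namespace Cfsg.Agent.H590.Ore.CoOneDeg

open Module Cfsg Cfsg.Agent.H847.Avg Cfsg.Agent.H847.Co1Small Cfsg.Agent.H847.Co1Tab
open Cfsg.Agent.SporadicA.Co0Mono (signCo0 permCo0 wordPerm wordPerm_apply perm_mul_sign)
open Cfsg.Agent.SporadicA.GolayBase (idx pt idx_lt pt_idx idx_pt idx_injective)
open Cfsg.Agent.SporadicA.GolayPerm (papp)
open Cfsg.Agent.SporadicStructure.M24El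
open Cfsg.Agent.CoOneType.CoOneE (pr)
open Cfsg.Agent.CoOneType.SignFacts (wt sup)
open scoped Pointwise

/-! ### involutions of `M24` of cycle type `1^8 2^8` are conjugate to sign changes on octads -/

theorem chi_sign_wt (c : golayCode) :
    Cfsg.Agent.H419.Spor.Co1.chi (signCo0 c) = 24 - 2 * (wt c : ℂ) := by
  rw [Cfsg.Agent.H843.IMC.Co1B.chi_sign]
  have h1 : ∀ i : GolayPt, Cfsg.Agent.H843.IMC.Lam.sgnC ((c : GolayPt → ZMod 2) i) =
      1 - 2 * (if i ∈ sup c then (1 : ℂ) else 0) := by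
    intro i
    split_ifs with h
    · rw [(Cfsg.Agent.CoOneType.SignFacts.mem_sup c i).1 h, Cfsg.Agent.H843.IMC.Lam.sgnC_one]; norm_num
    · rw [(Cfsg.Agent.CoOneType.SignFacts.notMem_sup c i).1 h, Cfsg.Agent.H843.IMC.Lam.sgnC_zero]; norm_num
  rw [Finset.sum_congr rfl fun i _ => h1 i, Finset.sum_sub_distrib, ← Finset.mul_sum, Finset.sum_ite_mem,
    Finset.univ_inter, Finset.sum_const, Finset.sum_const, Finset.card_univ]
  have h2 : Fintype.card GolayPt = 24 := rfl
  rw [h2]
  unfold wt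
  simp

theorem isConj_octad_of_fix {o : golayCode} (ho : wt o = 8) {g : M24} (hg : g * g = 1) (h1 : g ≠ 1)
    (h8 : Nat.card (MulAction.fixedBy GolayPt g) = 8) : IsConj (pr (signCo0 o)) (pr (permCo0 g)) := by
  obtain ⟨d, hd⟩ := exists_dodecad
  have hne : pr (permCo0 g) ≠ 1 := by
    intro h
    exact h1 (Cfsg.Agent.H419.Spor.Co1.pr_perm_injective (h.trans (map_one (pr.comp permCo0)).symm))
  rcases Cfsg.Agent.CoOneType.ClosingFacts.inv_cases o d Cfsg.Agent.CoOneType.ClosingCo1.a1 ho hd (permCo0 g)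
    (by rw [← map_mul, hg, map_one]) hne with h | h
  · exact h
  · exfalso
    obtain ⟨θ, hθ, hval⟩ := Cfsg.Agent.H419.Spor.Co1.exists_character
    have e1 : θ (pr (signCo0 d)) = θ (pr (permCo0 g)) := by
      obtain ⟨n, ρ, rfl⟩ := hθ
      obtain ⟨x, hx⟩ := isConj_iff.1 h
      have hx' : x * pr (signCo0 d) * x⁻¹ = pr (permCo0 g) := hx
      rw [← hx', Representation.char_conj]
    have c1 : Cfsg.Agent.H419.Spor.Co1.chi (signCo0 d) = 0 := by rw [chi_sign_wt, hd]; norm_num
    have c2 : Cfsg.Agent.H419.Spor.Co1.chi (signCo0 d * signCo0 d) = 24 := by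
      rw [Cfsg.Agent.SporadicA.Co0Mono.signCo0_mul_self, Cfsg.Agent.H419.Spor.Co1.chi_one]
    have c3 : Cfsg.Agent.H419.Spor.Co1.chi (permCo0 g) = 8 := by
      rw [Cfsg.Agent.H419.Spor.Co1.chi, Cfsg.Agent.H419.LeechFix.lchi_perm (MonoidHom.id Co0) (g := permCo0 g) (σ := g) rfl, h8]
      norm_num
    have c4 : Cfsg.Agent.H419.Spor.Co1.chi (permCo0 g * permCo0 g) = 24 := by
      rw [← map_mul, hg, map_one, Cfsg.Agent.H419.Spor.Co1.chi_one]
    rw [hval, hval, Cfsg.Agent.H419.Spor.Co1.psi, Cfsg.Agent.H419.Spor.Co1.psi, c1, c2, c3, c4] at e1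
    norm_num at e1

/-! ### the values on `2^11` -/

variable {W : Type} [AddCommGroup W] [Module ℂ W] [FiniteDimensional ℂ W] (R : Spor.Co1 →* (W →ₗ[ℂ] W))

/-- the value on the octad element -/
theorem trace_octad {o : golayCode} (ho : wt o = 8) :
    LinearMap.trace ℂ W (R (pr (signCo0 o))) = dA R + 20 * dB R - 21 * dC R := by
  obtain ⟨d, hd⟩ := exists_dodecad
  have e0 := mult R ho hd ∅ [] hS0
  have e2 := mult R ho hd {some 0, some 1} [0, 1] hS2
  have e4 := mult R ho hd {some 0, some 1, some 2, some 3} [0, 1, 2, 3] hS4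
  rw [tab_sum _ _ _ _ _ _ _ _ _ _ _ tab0] at e0
  rw [tab_sum _ _ _ _ _ _ _ _ _ _ _ tab2] at e2
  rw [tab_sum _ _ _ _ _ _ _ _ _ _ _ tab4] at e4
  unfold dA dB dC S0
  push_cast at e0 e2 e4 ⊢
  linear_combination (-1 / 4096 : ℂ) * e0 + (-20 / 4096 : ℂ) * e2 + (21 / 4096 : ℂ) * e4

/-! ### involutions -/

/-- the pair of indices is fixed -/
def cnd (P i j : ℕ) : Bool :=
  (Nat.beq (papp P i) i && Nat.beq (papp P j) j) || (Nat.beq (papp P i) j && Nat.beq (papp P j) i)

/-- the fixed pairs of indices -/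
def fixPairs (P : ℕ) : Finset (ℕ × ℕ) :=
  (Finset.range 24 ×ˢ Finset.range 24).filter fun ij => ij.1 < ij.2 ∧ cnd P ij.1 ij.2 = true

theorem card_fixed_le {P : ℕ} (hP : ok P = true) :
    (D.filter fun S => el P • S = S).card ≤ (fixPairs P).card := by
  refine le_trans (Finset.card_le_card ?_)
    (Finset.card_image_le (s := fixPairs P) (f := fun ij : ℕ × ℕ => ({pt ij.1, pt ij.2} : Finset GolayPt)))
  intro S hS
  rw [Finset.mem_filter] at hS
  obtain ⟨hS, h⟩ := hS
  obtain ⟨p, q, rfl, hpq⟩ := exists_idx hS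
  rw [Finset.mem_image]
  refine ⟨(idx p, idx q), ?_, by simp only [pt_idx]⟩
  have hne : p ≠ q := by rintro rfl; exact lt_irrefl _ hpq
  have hp : el P • p ∈ ({p, q} : Finset GolayPt) := by
    rw [← h]
    exact Finset.smul_mem_smul_finset (Finset.mem_insert_self _ _)
  have hq : el P • q ∈ ({p, q} : Finset GolayPt) := by
    rw [← h]
    exact Finset.smul_mem_smul_finset (Finset.mem_insert_of_mem (Finset.mem_singleton_self _))
  rw [Finset.mem_insert, Finset.mem_singleton] at hp hq
  have hinj : el P • p ≠ el P • q := fun h' => hne (MulAction.injective _ h')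
  unfold fixPairs
  rw [Finset.mem_filter, Finset.mem_product, Finset.mem_range, Finset.mem_range]
  refine ⟨⟨idx_lt p, idx_lt q⟩, hpq, ?_⟩
  unfold cnd
  rw [← idx_el_smul hP, ← idx_el_smul hP]
  rcases hp with hp | hp <;> rcases hq with hq | hq
  · exact absurd (hp.trans hq.symm) hinj
  · rw [hp, hq, Nat.beq_refl, Nat.beq_refl]; rfl
  · rw [hp, hq, Nat.beq_refl, Nat.beq_refl, Bool.and_self, Bool.or_true]
  · exact absurd (hp.trans hq.symm) hinj

/-- the check for an involution -/
def chkE (P : ℕ) : Bool :=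
  ok P && Nat.beq (Cfsg.Agent.SporadicA.GolayPerm.pcomp P P) idP && !(Nat.beq (papp P 0) 0 && Nat.beq (papp P 1) 1) &&
    Nat.beq ((List.range 24).countP fun i => Nat.beq (papp P i) i) 8 && Nat.ble (fixPairs P).card 36

theorem moved {P : ℕ} (hP : ok P = true) (h : (!(Nat.beq (papp P 0) 0 && Nat.beq (papp P 1) 1)) = true) : el P ≠ 1 := by
  intro h1
  have key : ∀ i < 24, papp P i = i := by
    intro i hi
    have h2 := idx_el_smul hP (pt i)
    rw [h1, one_smul, idx_pt hi] at h2
    exact h2.symm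
  rw [key 0 (by norm_num), key 1 (by norm_num)] at h
  exact absurd h (by decide)

theorem ker_ge (hc : dC R = 0) {P : ℕ} (h : chkE P = true) :
    dA R ≤ finrank ℂ (LinearMap.ker (rA R (el P) - 1)) + 8 * dB R := by
  classical
  unfold chkE at h
  simp only [Bool.and_eq_true] at h
  obtain ⟨⟨⟨⟨h1, h2⟩, h3⟩, h4⟩, h5⟩ := h
  have hsq : el P * el P = 1 := by
    have := congrArg el (Nat.eq_of_beq_eq_true h2)
    rwa [el_pcomp h1 h1, el_idP] at this
  have h8 : Nat.card (MulAction.fixedBy GolayPt (el P)) = 8 := by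
    rw [Nat.card_eq_fintype_card, Fintype.card_subtype, ← Nat.eq_of_beq_eq_true h4,
      ← Cfsg.Agent.H866.InvolType.fx_permOf (ok_iff.1 h1).1]
    unfold Cfsg.Agent.H866.InvolType.fx
    rw [← coe_el h1]
    rfl
  obtain ⟨o, ho⟩ := exists_octad
  have hconj := isConj_octad_of_fix ho hsq (moved h1 h3) h8
  have e1 : LinearMap.trace ℂ W (rp R (el P)) = dA R + 20 * dB R - 21 * dC R := by
    rw [← trace_octad R ho]
    exact (trace_conj R hconj).symm
  rw [trace_split R hc, ← trace_rA] at e1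
  have e2 : LinearMap.trace ℂ _ (rA R (el P)) =
      2 * (finrank ℂ (LinearMap.ker (rA R (el P) - 1)) : ℂ) - dA R :=
    trace_inv (by rw [← map_mul, hsq, map_one])
  have e3 : ∀ S ∈ D.filter (fun S => el P • S = S), ∃ t : ℤ, t ≤ dB R ∧
      LinearMap.trace ℂ W (rp R (el P) * pS R S) = t := by
    intro S hS
    rw [Finset.mem_filter] at hS
    obtain ⟨m, hm, hm2⟩ := trace_part R hsq hS.2
    rw [finrank_duad R hS.1] at hm hm2
    exact ⟨2 * (m : ℤ) - dB R, by omega, by rw [hm2]; push_cast; ring⟩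
  choose! t ht ht2 using e3
  rw [e2, Finset.sum_congr rfl ht2, hc] at e1
  have e4 : 2 * (finrank ℂ (LinearMap.ker (rA R (el P) - 1)) : ℤ) - dA R +
      ∑ S ∈ D.filter (fun S => el P • S = S), t S = dA R + 20 * dB R := by
    have : ((2 * (finrank ℂ (LinearMap.ker (rA R (el P) - 1)) : ℤ) - dA R +
      ∑ S ∈ D.filter (fun S => el P • S = S), t S : ℤ) : ℂ) = ((dA R + 20 * dB R : ℤ) : ℂ) := by
      push_cast
      rw [e1]
      push_cast
      ring
    exact_mod_cast this
  have e5 : ∑ S ∈ D.filter (fun S => el P • S = S), t S ≤ 36 * dB R := by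
    refine (Finset.sum_le_card_nsmul _ _ _ ht).trans ?_
    rw [nsmul_eq_mul]
    refine mul_le_mul_of_nonneg_right ?_ (Int.natCast_nonneg _)
    exact_mod_cast (card_fixed_le h1).trans (Nat.le_of_ble_eq_true h5)
  omega

/-! ### the element of order 23 -/

/-- three involutions -/
def E1 : ℕ := 803087990645929231008169128932478002
def E2 : ℕ := 236640362003071688657525297027528705
def E3 : ℕ := 860125865031517038382481001569945641
/-- their product -/
def Y : ℕ := 844649900668090165366601177858879061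

theorem chk1 : chkE E1 = true := by decide +kernel
theorem chk2 : chkE E2 = true := by decide +kernel
theorem chk3 : chkE E3 = true := by decide +kernel

theorem ok1 : ok E1 = true := by decide +kernel
theorem ok2 : ok E2 = true := by decide +kernel
theorem ok3 : ok E3 = true := by decide +kernel
theorem okY : ok Y = true := by decide +kernel

theorem elY : el Y = el E1 * el E2 * el E3 := by
  rw [← el_pcomp ok1 ok2, ← el_pcomp (ok_pcomp ok1 ok2) ok3]
  congr 1

/-- packed powers -/
def ppw (c : ℕ) : ℕ → ℕ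
  | 0 => idP
  | k + 1 => Cfsg.Agent.SporadicA.GolayPerm.pcomp c (ppw c k)

theorem el_ppw {c : ℕ} (hc : ok c = true) (k : ℕ) : ok (ppw c k) = true ∧ el (ppw c k) = el c ^ k := by
  induction k with
  | zero => exact ⟨ok_idP, by rw [pow_zero]; exact el_idP⟩
  | succ k ih =>
    refine ⟨ok_pcomp hc ih.1, ?_⟩
    rw [pow_succ', ← ih.2, ← el_pcomp hc ih.1]
    rfl

theorem Y_pow : el Y ^ 23 = 1 := by
  rw [← (el_ppw okY 23).2, show ppw Y 23 = idP from by decide +kernel, el_idP]

theorem Y_ne : el Y ≠ 1 := moved okY (by decide +kernel)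

theorem fixed_Y {S : Finset GolayPt} (hS : S ∈ D) : el Y • S ≠ S := by
  intro h
  have h1 := card_fixed_le okY
  rw [show (fixPairs Y).card = 0 from by decide +kernel, Nat.le_zero, Finset.card_eq_zero] at h1
  have h2 : S ∈ D.filter fun S => el Y • S = S := Finset.mem_filter.2 ⟨hS, h⟩
  rw [h1] at h2
  exact absurd h2 (Finset.notMem_empty _)

theorem order_Y : orderOf (el Y) = 23 := by
  have : Fact (Nat.Prime 23) := ⟨by norm_num⟩
  exact orderOf_eq_prime Y_pow Y_ne

theorem card_Z : Nat.card (Subgroup.zpowers (el Y)) = 23 := by rw [Nat.card_zpowers, order_Y]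

theorem mem_zpowers_of {h : M24} (hh : h ∈ Subgroup.zpowers (el Y)) (h1 : h ≠ 1) : el Y ∈ Subgroup.zpowers h := by
  have : Fact (Nat.Prime 23) := ⟨by norm_num⟩
  have h2 : (⟨el Y, Subgroup.mem_zpowers _⟩ : Subgroup.zpowers (el Y)) ∈ Subgroup.zpowers (⟨h, hh⟩ : Subgroup.zpowers (el Y)) :=
    mem_zpowers_of_prime_card card_Z fun h3 => h1 (congrArg Subtype.val h3)
  obtain ⟨n, hn⟩ := Subgroup.mem_zpowers_iff.1 h2
  exact Subgroup.mem_zpowers_iff.2 ⟨n, congrArg Subtype.val hn⟩

theorem fixed_Z {h : M24} (hh : h ∈ Subgroup.zpowers (el Y)) (h1 : h ≠ 1) {S : Finset GolayPt} (hS : S ∈ D) : h • S ≠ S := by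
  intro h2
  have h3 : Subgroup.zpowers h ≤ MulAction.stabilizer M24 S := by
    rw [Subgroup.zpowers_le]
    exact h2
  exact fixed_Y hS (h3 (mem_zpowers_of hh h1))

theorem order_Z {h : M24} (hh : h ∈ Subgroup.zpowers (el Y)) (h1 : h ≠ 1) : orderOf (pr (permCo0 h)) = 23 := by
  have h2 := orderOf_injective (pr.comp permCo0) Cfsg.Agent.H419.Spor.Co1.pr_perm_injective h
  have : Fact (Nat.Prime 23) := ⟨by norm_num⟩
  have h3 : orderOf h = 23 := by
    refine orderOf_eq_prime ?_ h1
    have h4 := pow_card_eq_one' (x := (⟨h, hh⟩ : Subgroup.zpowers (el Y)))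
    rw [card_Z] at h4
    exact congrArg Subtype.val h4
  rw [← h3, ← h2]
  rfl

/-- codimension of an intersection -/
theorem finrank_inf {V : Type*} [AddCommGroup V] [Module ℂ V] [FiniteDimensional ℂ V] (K L : Submodule ℂ V) :
    finrank ℂ K + finrank ℂ L ≤ finrank ℂ V + finrank ℂ (K ⊓ L : Submodule ℂ V) := by
  have h1 := Submodule.finrank_sup_add_finrank_inf_eq K L
  have h2 := Submodule.finrank_le (K ⊔ L)
  omega

/-- the restriction to the group of order 23 -/
noncomputable def rZ : Subgroup.zpowers (el Y) →* (eig (rcode R) (chi ∅) →ₗ[ℂ] eig (rcode R) (chi ∅)) :=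
  (rA R).comp (Subgroup.zpowers (el Y)).subtype

/-- dimension of the fixed space of the element of order 23 on the fixed space of `2^11` -/
noncomputable def dY : ℕ := finrank ℂ (eig (rZ R) fun _ => (1 : ℂ))

theorem mem_eig_of {x : eig (rcode R) (chi ∅)} (h : rA R (el Y) x = x) : x ∈ eig (rZ R) fun _ => (1 : ℂ) := by
  intro z
  rw [one_smul]
  have h1 : Subgroup.zpowers (el Y) ≤ (MonoidHom.ker (rA R)).comap (MonoidHom.id M24) ∨ True := Or.inr trivial
  obtain ⟨n, hn⟩ := Subgroup.mem_zpowers_iff.1 z.2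
  have key : ∀ k : ℕ, rA R (el Y ^ k) x = x := by
    intro k
    induction k with
    | zero => rw [pow_zero, map_one]; rfl
    | succ k ih =>
      rw [pow_succ, map_mul, Module.End.mul_apply, h, ih]
  have h2 : ∃ k : ℕ, el Y ^ k = z := by
    have : (z : M24) ∈ Submonoid.powers (el Y) := by
      rw [mem_powers_iff_mem_zpowers]
      exact z.2
    exact this
  obtain ⟨k, hk⟩ := h2
  show rA R (z : M24) x = x
  rw [← hk]
  exact key k

theorem fix_ge (hc : dC R = 0) : dA R ≤ dY R + 24 * dB R := by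
  have h1 := ker_ge R hc chk1
  have h2 := ker_ge R hc chk2
  have h3 := ker_ge R hc chk3
  have h4 := finrank_inf (LinearMap.ker (rA R (el E1) - 1)) (LinearMap.ker (rA R (el E2) - 1))
  have h5 := finrank_inf (LinearMap.ker (rA R (el E1) - 1) ⊓ LinearMap.ker (rA R (el E2) - 1))
    (LinearMap.ker (rA R (el E3) - 1))
  have h6 : finrank ℂ (LinearMap.ker (rA R (el E1) - 1) ⊓ LinearMap.ker (rA R (el E2) - 1) ⊓
      LinearMap.ker (rA R (el E3) - 1) : Submodule ℂ (eig (rcode R) (chi ∅))) ≤ dY R := by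
    refine Submodule.finrank_mono ?_
    rintro x ⟨⟨k1, k2⟩, k3⟩
    rw [SetLike.mem_coe, LinearMap.mem_ker, LinearMap.sub_apply, sub_eq_zero] at k1 k2 k3
    refine mem_eig_of R ?_
    rw [elY, map_mul, map_mul, Module.End.mul_apply, Module.End.mul_apply, k3]
    exact (congrArg _ k2).trans k1
  have h7 : finrank ℂ (eig (rcode R) (chi ∅)) = dA R := rfl
  omega

/-- **The bound for the fixed space of the element of order 23.** -/
theorem dY_le (hc : dC R = 0) (hR : ∀ x : Spor.Co1, orderOf x = 23 → (LinearMap.trace ℂ W (R x)).re ≤ 24 / 5) :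
    23 * dY R ≤ dA R + 105 := by
  classical
  let _ : Fintype (Subgroup.zpowers (el Y)) := Fintype.ofFinite _
  have h1 := trace_avg (rZ R) (lin_one (A := Subgroup.zpowers (el Y)))
  rw [trace_avg_eq_sum, ← Nat.card_eq_fintype_card, card_Z] at h1
  have h2 : ∑ z : Subgroup.zpowers (el Y), (1 : ℂ) * LinearMap.trace ℂ _ (rZ R z) = 23 * dY R := by
    unfold dY
    rw [← h1, ← mul_assoc, Nat.cast_ofNat, mul_inv_cancel₀ (by norm_num), one_mul]
  have h3 : ∀ z : Subgroup.zpowers (el Y), z ≠ 1 → (LinearMap.trace ℂ _ (rZ R z)).re ≤ 24 / 5 := by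
    intro z hz
    have hz1 : (z : M24) ≠ 1 := fun h => hz (Subtype.ext h)
    have e1 := trace_split R hc (z : M24)
    rw [Finset.filter_false_of_mem fun S hS => fixed_Z z.2 hz1 hS, Finset.sum_empty, add_zero, ← trace_rA] at e1
    have e2 : LinearMap.trace ℂ _ (rZ R z) = LinearMap.trace ℂ W (R (pr (permCo0 (z : M24)))) := e1.symm
    rw [e2]
    exact hR _ (order_Z z.2 hz1)
  have h4 := congrArg Complex.re h2
  rw [Complex.re_sum] at h4
  have h5 : (LinearMap.trace ℂ _ (rZ R 1)).re = dA R := by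
    rw [map_one, LinearMap.trace_one, Complex.natCast_re]
    rfl
  rw [Fintype.sum_eq_add_sum_compl (1 : Subgroup.zpowers (el Y))] at h4
  simp only [one_mul] at h4
  rw [h5] at h4
  have h6 : ∑ z ∈ ({1}ᶜ : Finset (Subgroup.zpowers (el Y))), (LinearMap.trace ℂ _ (rZ R z)).re ≤ 22 * (24 / 5) := by
    refine (Finset.sum_le_card_nsmul _ _ (24 / 5) fun z hz => h3 z ?_).trans ?_
    · rintro rfl
      rw [Finset.mem_compl, Finset.mem_singleton] at hz
      exact hz rfl
    · rw [Finset.card_compl, ← Nat.card_eq_fintype_card, card_Z, Finset.card_singleton, nsmul_eq_mul]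
      norm_num
  have h7 : ((23 : ℂ) * (dY R : ℂ)).re = 23 * (dY R : ℝ) := by simp
  rw [h7] at h4
  have h8 : (23 * dY R : ℝ) < dA R + 106 := by linarith
  have h9 : 23 * dY R < dA R + 106 := by exact_mod_cast h8
  omega

theorem small (h : dA R < 21) : dY R = dA R := by
  have : IsSimpleGroup M24 := Cfsg.Agent.S0365.result
  have h1 : ∀ g, rA R g = 1 := by
    by_contra hcon
    push Not at hcon
    have := Cfsg.Agent.H121.Cyc.m24 (G := M24) ⟨MulEquiv.refl _⟩ _ (rA R) hcon
    have h7 : finrank ℂ (eig (rcode R) (chi ∅)) = dA R := rfl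
    omega
  unfold dY
  have h2 : eig (rZ R) (fun _ => (1 : ℂ)) = ⊤ := by
    rw [eq_top_iff]
    intro x _
    exact mem_eig_of R (by rw [h1]; rfl)
  rw [h2, finrank_top]
  rfl

/-! ### the element of order 11 -/

/-- multiplication by 2, of order 11 -/
def V : ℕ := 983435072843990828779021698901151808

theorem okV : ok V = true := by decide +kernel

theorem V_pow : el V ^ 11 = 1 := by
  rw [← (el_ppw okV 11).2, show ppw V 11 = idP from by decide +kernel, el_idP]

theorem V_ne : el V ≠ 1 := moved okV (by decide +kernel)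

theorem order_V : orderOf (el V) = 11 := by
  have : Fact (Nat.Prime 11) := ⟨by norm_num⟩
  exact orderOf_eq_prime V_pow V_ne

theorem card_ZV : Nat.card (Subgroup.zpowers (el V)) = 11 := by rw [Nat.card_zpowers, order_V]

theorem mem_zpowers_V {h : M24} (hh : h ∈ Subgroup.zpowers (el V)) (h1 : h ≠ 1) : el V ∈ Subgroup.zpowers h := by
  have : Fact (Nat.Prime 11) := ⟨by norm_num⟩
  have h2 : (⟨el V, Subgroup.mem_zpowers _⟩ : Subgroup.zpowers (el V)) ∈ Subgroup.zpowers (⟨h, hh⟩ : Subgroup.zpowers (el V)) :=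
    mem_zpowers_of_prime_card card_ZV fun h3 => h1 (congrArg Subtype.val h3)
  obtain ⟨n, hn⟩ := Subgroup.mem_zpowers_iff.1 h2
  exact Subgroup.mem_zpowers_iff.2 ⟨n, congrArg Subtype.val hn⟩

/-- the fixed duad -/
def S1 : Finset GolayPt := {some 0, none}

theorem S1_mem : S1 ∈ D := mem_D.2 (by decide)

theorem V_S1 : el V • S1 = S1 := by
  unfold S1
  rw [Finset.smul_finset_insert, Finset.smul_finset_singleton, el_smul_pt okV, el_smul_pt okV]
  have h1 : pt (papp V (idx (some 0))) = some 0 := by decide +kernel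
  have h2 : pt (papp V (idx none)) = none := by decide +kernel
  rw [h1, h2]

theorem fixed_V {S : Finset GolayPt} (hS : S ∈ D) (h : el V • S = S) : S = S1 := by
  have h1 := card_fixed_le okV
  rw [show (fixPairs V).card = 1 from by decide +kernel] at h1
  exact Finset.card_le_one.1 h1 S (Finset.mem_filter.2 ⟨hS, h⟩) S1 (Finset.mem_filter.2 ⟨S1_mem, V_S1⟩)

theorem smul_S1 {h : M24} (hh : h ∈ Subgroup.zpowers (el V)) : h • S1 = S1 := by
  have h3 : Subgroup.zpowers (el V) ≤ MulAction.stabilizer M24 S1 := by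
    rw [Subgroup.zpowers_le]
    exact V_S1
  exact h3 hh

theorem filter_V {h : M24} (hh : h ∈ Subgroup.zpowers (el V)) (h1 : h ≠ 1) : D.filter (fun S => h • S = S) = {S1} := by
  rw [Finset.eq_singleton_iff_unique_mem]
  refine ⟨Finset.mem_filter.2 ⟨S1_mem, smul_S1 hh⟩, fun S hS => ?_⟩
  rw [Finset.mem_filter] at hS
  have h3 : Subgroup.zpowers h ≤ MulAction.stabilizer M24 S := by
    rw [Subgroup.zpowers_le]
    exact hS.2
  exact fixed_V hS.1 (h3 (mem_zpowers_V hh h1))

/-- the dodecad -/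
theorem mask_mem : Cfsg.Agent.SporadicA.GolayBase.word 340831 ∈ golayCode := by
  rw [Cfsg.Agent.SporadicA.GolayBase.mem_golayCode_iff, Cfsg.Agent.SporadicA.GolayBase.maskW_word]
  all_goals decide +kernel

/-- the dodecad as a code word -/
def cd : golayCode := ⟨Cfsg.Agent.SporadicA.GolayBase.word 340831, mask_mem⟩

theorem wordPerm_cd : wordPerm (el V) cd = cd := by
  apply Subtype.ext
  funext p
  show Cfsg.Agent.SporadicA.GolayBase.word 340831 ((el V : Equiv.Perm GolayPt).symm p) =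
    Cfsg.Agent.SporadicA.GolayBase.word 340831 p
  have key : ∀ i < 24, Nat.testBit 340831 (papp V i) = Nat.testBit 340831 i := by decide +kernel
  obtain ⟨q, rfl⟩ := (el V : Equiv.Perm GolayPt).surjective p
  rw [Equiv.symm_apply_apply]
  unfold Cfsg.Agent.SporadicA.GolayBase.word
  have h1 : idx ((el V : Equiv.Perm GolayPt) q) = papp V (idx q) := idx_el_smul okV q
  rw [h1, key _ (idx_lt q)]

theorem comm_V_cd : Commute (pr (permCo0 (el V))) (pr (signCo0 cd)) := by
  have h1 := perm_mul_sign (el V) cd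
  rw [wordPerm_cd] at h1
  show pr (permCo0 (el V)) * pr (signCo0 cd) = pr (signCo0 cd) * pr (permCo0 (el V))
  rw [← map_mul, h1, map_mul]

theorem cd_ne : pr (signCo0 cd) ≠ 1 := by
  rw [Ne, Cfsg.Agent.CoOneType.CoOneE.pr_sign_eq_one_iff]
  have h0 : (cd : GolayPt → ZMod 2) (some 0) = 1 := by
    show Cfsg.Agent.SporadicA.GolayBase.word 340831 (some 0) = 1
    decide +kernel
  have h1 : (cd : GolayPt → ZMod 2) none = 0 := by
    show Cfsg.Agent.SporadicA.GolayBase.word 340831 none = 0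
    decide +kernel
  rintro (h | h)
  · rw [Cfsg.Agent.CoOneType.CoOneE.wt_eq_zero cd h] at h0
    exact absurd h0 (by decide)
  · have h2 : sup cd = Finset.univ := Finset.card_eq_iff_eq_univ _ |>.1 h
    have h3 : none ∈ sup cd := by rw [h2]; exact Finset.mem_univ _
    rw [Cfsg.Agent.CoOneType.SignFacts.mem_sup, h1] at h3
    exact absurd h3 (by decide)

theorem chi_S1_cd : chi S1 (Multiplicative.ofAdd cd) = -1 := by
  have h0 : (cd : GolayPt → ZMod 2) (some 0) = 1 := by
    show Cfsg.Agent.SporadicA.GolayBase.word 340831 (some 0) = 1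
    decide +kernel
  have h1 : (cd : GolayPt → ZMod 2) none = 0 := by
    show Cfsg.Agent.SporadicA.GolayBase.word 340831 none = 0
    decide +kernel
  unfold chi S1
  rw [Finset.sum_pair (by decide)]
  show sg ((cd : GolayPt → ZMod 2) (some 0) + (cd : GolayPt → ZMod 2) none) = -1
  rw [h0, h1, add_zero, sg_one]

/-- the trace with a sign change -/
theorem trace_split_sign (hc : dC R = 0) (g : M24) (c : Multiplicative golayCode) :
    LinearMap.trace ℂ W (rp R g * rcode R c) = LinearMap.trace ℂ W (rp R g * pS R ∅) +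
      ∑ S ∈ D.filter (fun S => g • S = S), chi S c * LinearMap.trace ℂ W (rp R g * pS R S) := by
  have h0 : ∀ S, rcode R c * pS R S = chi S c • pS R S := fun S => mul_avg _ (lin_chi S) c
  have h1 : rp R g * rcode R c = rp R g * (rcode R c * pF R) := by rw [pF_eq_one R hc, mul_one]
  rw [h1]
  unfold pF F
  rw [Finset.sum_insert empty_notMem_D, mul_add, mul_add, map_add, h0]
  congr 1
  · rw [mul_smul_comm, map_smul, smul_eq_mul]
    have : chi ∅ c = 1 := by
      unfold chi
      rw [Finset.sum_empty, sg_zero]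
    rw [this, one_mul]
  · rw [Finset.mul_sum, Finset.mul_sum, map_sum, Finset.sum_filter]
    refine Finset.sum_congr rfl fun S hS => ?_
    rw [h0, mul_smul_comm, map_smul, smul_eq_mul]
    split_ifs with h
    · rfl
    · rw [trace_move R g (Finset.mem_insert_of_mem hS) h, mul_zero]

/-- the values on the group of order 11 -/
theorem trace_V (hc : dC R = 0) {h : M24} (hh : h ∈ Subgroup.zpowers (el V)) (h1 : h ≠ 1) :
    LinearMap.trace ℂ W (R (pr (permCo0 h))) = LinearMap.trace ℂ W (rp R h * pS R ∅) +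
      LinearMap.trace ℂ W (rp R h * pS R S1) ∧
    LinearMap.trace ℂ W (R (pr (permCo0 h) * pr (signCo0 cd))) = LinearMap.trace ℂ W (rp R h * pS R ∅) -
      LinearMap.trace ℂ W (rp R h * pS R S1) := by
  constructor
  · have h2 := trace_split R hc h
    rw [filter_V hh h1, Finset.sum_singleton] at h2
    exact h2
  · have h2 := trace_split_sign R hc h (Multiplicative.ofAdd cd)
    rw [filter_V hh h1, Finset.sum_singleton, chi_S1_cd] at h2
    rw [map_mul R, neg_one_mul, ← sub_eq_add_neg] at *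
    exact h2

/-- divisibility from constant traces -/
theorem dvd_of_const {Z : Type*} [Group Z] [Finite Z] {V : Type*} [AddCommGroup V] [Module ℂ V] [FiniteDimensional ℂ V]
    (r : Z →* (V →ₗ[ℂ] V)) {n : ℕ} (hn : Nat.card Z = n) {t : ℤ} (ht : ∀ z : Z, z ≠ 1 → LinearMap.trace ℂ V (r z) = t) :
    (n : ℤ) ∣ finrank ℂ V + (n - 1) * t := by
  classical
  let _ : Fintype Z := Fintype.ofFinite _
  have h1 := trace_avg r (lin_one (A := Z))
  rw [trace_avg_eq_sum, ← Nat.card_eq_fintype_card, hn, Fintype.sum_eq_add_sum_compl (1 : Z)] at h1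
  rw [Finset.sum_congr rfl (g := fun _ => (t : ℂ)) (fun z hz => by
    rw [one_mul]
    exact ht z (by rintro rfl; rw [Finset.mem_compl, Finset.mem_singleton] at hz; exact hz rfl)), Finset.sum_const,
    Finset.card_compl, ← Nat.card_eq_fintype_card, hn, Finset.card_singleton, map_one, LinearMap.trace_one, one_mul,
    nsmul_eq_mul] at h1
  have hn1 : 1 ≤ n := by rw [← hn]; exact Nat.card_pos
  have hn0 : (n : ℂ) ≠ 0 := by
    have : n ≠ 0 := by omega
    exact_mod_cast this
  refine ⟨finrank ℂ (eig r fun _ => (1 : ℂ)), ?_⟩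
  have h2 : ((finrank ℂ V + (n - 1) * t : ℤ) : ℂ) = ((n * (finrank ℂ (eig r fun _ => (1 : ℂ))) : ℤ) : ℂ) := by
    push_cast [Nat.cast_sub hn1] at h1 ⊢
    rw [← h1]
    field_simp
  exact_mod_cast h2

/-- the representation of the group of order 11 on the part of the fixed duad -/
noncomputable def rV : Subgroup.zpowers (el V) →* (eig (rcode R) (chi S1) →ₗ[ℂ] eig (rcode R) (chi S1)) where
  toFun g := (rp R g).restrict fun x hx => rp_mem R (smul_S1 g.2) hx
  map_one' := by
    ext x
    show rp R 1 x = x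
    rw [map_one]
    rfl
  map_mul' g h := by
    ext x
    show rp R (g * h) x = rp R g (rp R h x)
    rw [map_mul]
    rfl

/-- **The congruences modulo 11.** -/
theorem mod_eleven (hc : dC R = 0) {u v : ℤ}
    (h : ∀ y ∈ Subgroup.zpowers (pr (permCo0 (el V))), y ≠ 1 → LinearMap.trace ℂ W (R y) = u + v ∧
      LinearMap.trace ℂ W (R (y * pr (signCo0 cd))) = u - v) :
    (11 : ℤ) ∣ dA R + 10 * u ∧ (11 : ℤ) ∣ dB R + 10 * v := by
  have key : ∀ g ∈ Subgroup.zpowers (el V), g ≠ 1 → LinearMap.trace ℂ W (rp R g * pS R ∅) = u ∧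
      LinearMap.trace ℂ W (rp R g * pS R S1) = v := by
    intro g hg hg1
    obtain ⟨e1, e2⟩ := trace_V R hc hg hg1
    have hm : pr (permCo0 g) ∈ Subgroup.zpowers (pr (permCo0 (el V))) := by
      obtain ⟨n, rfl⟩ := Subgroup.mem_zpowers_iff.1 hg
      rw [map_zpow, map_zpow]
      exact Subgroup.zpow_mem _ (Subgroup.mem_zpowers _) n
    have hm1 : pr (permCo0 g) ≠ 1 := fun h' =>
      hg1 (Cfsg.Agent.H419.Spor.Co1.pr_perm_injective (h'.trans (map_one (pr.comp permCo0)).symm))
    obtain ⟨e3, e4⟩ := h _ hm hm1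
    rw [e3] at e1
    rw [e4] at e2
    constructor
    · linear_combination (-1 / 2 : ℂ) * e1 + (-1 / 2 : ℂ) * e2
    · linear_combination (-1 / 2 : ℂ) * e1 + (1 / 2 : ℂ) * e2
  constructor
  · have h1 := dvd_of_const ((rA R).comp (Subgroup.zpowers (el V)).subtype) card_ZV (t := u) fun z hz => by
      show LinearMap.trace ℂ _ (rA R (z : M24)) = u
      rw [trace_rA]
      exact (key z z.2 fun h' => hz (Subtype.ext h')).1
    exact h1
  · have h1 := dvd_of_const (rV R) card_ZV (t := v) fun z hz => by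
      have h2 := (key z z.2 fun h' => hz (Subtype.ext h')).2
      rw [trace_restrict R (smul_S1 z.2)] at h2
      exact h2
    rw [finrank_duad R S1_mem] at h1
    exact h1

end Cfsg.Agent.H590.Ore.CoOneDeg
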